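import Groth.Agent.Lib.ConnH0.Basic
import Groth.Agent.Lib.AlgSp.FieldFibreDim
import Groth.Agent.Lib.CMFree.FiniteFlat
import Groth.Agent.Lib.Euler.Vanish
import Mathlib.RingTheory.Regular.IsSMulRegular

/-!
# Proper one-dimensional schemes with only constant functions
-/

set_option autoImplicit false
set_option backward.isDefEq.respectTransparency false
set_option linter.all false

universe u

open CategoryTheory CategoryTheory.Limits AlgebraicGeometry TopologicalSpace Opposite IsLocalRing

noncomputable section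

namespace GrothLib.CurveH0CM

theorem exists_killed_of_maximal_assoc {R : Type*} [CommRing R] [IsLocalRing R] [IsNoetherianRing R]
    (h : ∀ r ∈ maximalIdeal R, ¬ IsSMulRegular R r) :
    ∃ a : R, a ≠ 0 ∧ ∀ r ∈ maximalIdeal R, r * a = 0 := by
  classical
  have hfin := associatedPrimes.finite R R
  have hsub : (maximalIdeal R : Set R) ⊆ ⋃ p ∈ (hfin.toFinset : Set (Ideal R)), (id p : Ideal R) := by
    intro r hr
    have := biUnion_associatedPrimes_eq_compl_regular R R
    rw [Set.Finite.coe_toFinset]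
    exact this.symm ▸ (h r hr : r ∈ { r : R | IsSMulRegular R r }ᶜ)
  obtain ⟨p, hp, hle⟩ := (Ideal.subset_union_prime ⊥ ⊥ (fun i hi _ _ => (hfin.mem_toFinset.1 hi).isPrime)).1 hsub
  have hp' := hfin.mem_toFinset.1 hp
  have heq : p = maximalIdeal R :=
    le_antisymm (le_maximalIdeal hp'.isPrime.ne_top) hle
  obtain ⟨-, a, ha⟩ := isAssociatedPrime_iff.1 (hp' : IsAssociatedPrime p R)
  refine ⟨a, fun h0 => hp'.isPrime.ne_top ?_, fun r hr => ?_⟩
  · rw [ha, h0]
    exact (Ideal.eq_top_iff_one _).2 (Submodule.mem_colon_singleton.2 (by simp))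
  · have : r ∈ p := heq ▸ hr
    rw [ha] at this
    simpa using Submodule.mem_colon_singleton.1 this

variable {X : Scheme.{u}}

theorem krullDim_points_le {d : WithBot ℕ∞} (hd : topologicalKrullDim X ≤ d) : Order.krullDim X ≤ d :=
  (Order.krullDim_eq_of_orderIso (irreducibleSetEquivPoints (α := ↥X))).symm.le.trans hd

theorem isClosed_singleton_of_dim_stalk (hd : topologicalKrullDim X ≤ 1) {x : X}
    (hx : ¬ ringKrullDim (X.presheaf.stalk x) ≤ 0) : IsClosed ({x} : Set X) := by
  refine isClosed_of_closure_subset fun z hz => ?_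
  by_contra hne
  have hzx : z < x := lt_iff_le_not_ge.2 ⟨specializes_iff_mem_closure.2 hz,
    fun h => hne ((Specializes.antisymm (specializes_iff_mem_closure.2 hz) h).eq.symm)⟩
  rw [ringKrullDim_stalk_eq_coheight] at hx
  obtain ⟨y, hxy⟩ : ∃ y, x < y := by
    by_contra hall
    simp only [not_exists] at hall
    have : Order.coheight x = 0 := Order.coheight_eq_zero.2 fun b hb =>
      not_lt_iff_le_imp_ge.1 (hall b) hb
    rw [this] at hx
    exact hx le_rfl
  let c : LTSeries X := ((RelSeries.singleton _ z).snoc x hzx).snoc y (by simpa using hxy)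
  have h := (Order.LTSeries.length_le_krullDim c).trans (krullDim_points_le hd)
  simp [c] at h

/-- A function killed by the maximal ideal of a closed point extends by zero. -/
theorem exists_global_of_killed [IsLocallyNoetherian X] (x : X) (hx : IsClosed ({x} : Set X))
    (a : X.presheaf.stalk x) (ha : a ≠ 0) (hk : ∀ r ∈ maximalIdeal (X.presheaf.stalk x), r * a = 0) :
    ∃ t : Γ(X, ⊤), X.presheaf.germ ⊤ x trivial t ≠ 0 ∧
      ∀ y : X, y ≠ x → X.presheaf.germ ⊤ y trivial t = 0 := by
  classical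
  obtain ⟨_, ⟨U, hU, rfl⟩, hxU, -⟩ :=
    X.isBasis_affineOpens.exists_subset_of_mem_open (Set.mem_univ x) isOpen_univ
  haveI := IsLocallyNoetherian.component_noetherian ⟨U, hU⟩
  haveI := hU.isLocalization_stalk ⟨x, hxU⟩
  set p := (hU.primeIdealOf ⟨x, hxU⟩).asIdeal
  letI := X.presheaf.algebra_section_stalk (U := U) ⟨x, hxU⟩
  obtain ⟨s, t₀, rfl⟩ := IsLocalization.exists_mk'_eq p.primeCompl a
  have hmem : ∀ g ∈ p, algebraMap Γ(X, U) (X.presheaf.stalk x) g ∈ maximalIdeal (X.presheaf.stalk x) := fun g hg =>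
    (IsLocalization.AtPrime.to_map_mem_maximal_iff (X.presheaf.stalk x) p g).2 hg
  have hann : ∀ g ∈ p, ∃ c : p.primeCompl, (c : Γ(X, U)) * (g * s) = 0 := fun g hg => by
    refine (IsLocalization.map_eq_zero_iff p.primeCompl (X.presheaf.stalk x) _).1 ?_
    have := hk _ (hmem g hg)
    rw [map_mul, ← IsLocalization.mk'_spec (X.presheaf.stalk x) s t₀, ← mul_assoc, this, zero_mul]
  obtain ⟨G, hG⟩ := (IsNoetherian.noetherian p : p.FG)
  choose! c hc using hann
  let c₀ : p.primeCompl := ∏ g ∈ G, c g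
  set s' : Γ(X, U) := (c₀ : Γ(X, U)) * s
  have hs' : ∀ g ∈ p, g * s' = 0 := by
    intro g hg
    have : p ≤ LinearMap.ker (LinearMap.mulRight Γ(X, U) s') := by
      rw [← hG, Submodule.span_le]
      intro e he
      have hep : e ∈ p := by rw [← hG]; exact Submodule.subset_span he
      obtain ⟨d, hd⟩ := Finset.dvd_prod_of_mem c he
      show e * s' = 0
      rw [show s' = (c₀ : Γ(X, U)) * s from rfl, show c₀ = _ from hd]
      push_cast
      linear_combination (d : Γ(X, U)) * hc e hep
    exact this hg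
  let U₂ : ULift.{u} Bool → X.Opens := fun b => if b.down then U else ⟨{x}ᶜ, hx.isOpen_compl⟩
  have hzero : ∀ (y : X) (hyU : y ∈ U), y ≠ x → X.presheaf.germ U y hyU s' = 0 := by
    intro y hyU hyx
    haveI := hU.isLocalization_stalk ⟨y, hyU⟩
    letI := X.presheaf.algebra_section_stalk (U := U) ⟨y, hyU⟩
    obtain ⟨g, hg, hgy⟩ : ∃ g ∈ p, g ∉ (hU.primeIdealOf ⟨y, hyU⟩).asIdeal := by
      by_contra hall
      simp only [not_exists, not_and, not_not] at hall
      have hle : hU.primeIdealOf ⟨x, hxU⟩ ⤳ hU.primeIdealOf ⟨y, hyU⟩ := (PrimeSpectrum.le_iff_specializes _ _).1 hall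
      have hsp : x ⤳ y := by
        have := hle.map hU.fromSpec.continuous
        rwa [hU.fromSpec_primeIdealOf, hU.fromSpec_primeIdealOf] at this
      exact hyx (by
        have h2 := specializes_iff_mem_closure.1 hsp
        rwa [hx.closure_eq] at h2)
    have h1 := congrArg (algebraMap Γ(X, U) (X.presheaf.stalk y)) (hs' g hg)
    rw [map_mul, map_zero] at h1
    exact (IsUnit.mul_right_eq_zero (IsLocalization.map_units (X.presheaf.stalk y)
      (⟨g, hgy⟩ : (hU.primeIdealOf ⟨y, hyU⟩).asIdeal.primeCompl))).1 h1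
  let sf : ∀ b, Γ(X, U₂ b) := fun b => match b with
    | ⟨true⟩ => s'
    | ⟨false⟩ => 0
  have hcompat : TopCat.Presheaf.IsCompatible X.presheaf U₂ sf := by
    intro a b
    refine TopCat.Presheaf.section_ext (C := CommRingCat.{u}) (X := X.carrier) X.sheaf _ _ _ fun z hz => ?_
    refine (X.presheaf.germ_res_apply _ _ _ _).trans (Eq.trans ?_ (X.presheaf.germ_res_apply _ _ _ _).symm)
    obtain ⟨_ | _⟩ := a <;> obtain ⟨_ | _⟩ := b
    · rfl
    · exact (map_zero _).trans (hzero z hz.2 hz.1).symm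
    · exact (hzero z hz.1 hz.2).trans (map_zero _).symm
    · rfl
  obtain ⟨t, ht, -⟩ := TopCat.Sheaf.existsUnique_gluing' X.sheaf U₂ ⊤ (fun b => homOfLE le_top)
    (fun y _ => Opens.mem_iSup.2 (by
      by_cases h : y = x
      · exact ⟨⟨true⟩, h ▸ hxU⟩
      · exact ⟨⟨false⟩, h⟩)) sf hcompat
  refine ⟨t, ?_, fun y hy => ?_⟩
  · have h1 := (X.presheaf.germ_res_apply (homOfLE le_top : U₂ ⟨true⟩ ⟶ ⊤) x hxU t).symm.trans
      (congrArg (X.presheaf.germ (U₂ ⟨true⟩) x hxU) (ht ⟨true⟩))
    rw [h1]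
    show algebraMap Γ(X, U) (X.presheaf.stalk x) ((c₀ : Γ(X, U)) * s) ≠ 0
    rw [map_mul]
    intro h
    refine ha ?_
    rw [IsUnit.mul_right_eq_zero (IsLocalization.map_units (X.presheaf.stalk x) c₀)] at h
    rw [← IsUnit.mul_left_eq_zero (IsLocalization.map_units (X.presheaf.stalk x) t₀), IsLocalization.mk'_spec]
    exact h
  · exact ((X.presheaf.germ_res_apply (homOfLE le_top : U₂ ⟨false⟩ ⟶ ⊤) y hy t).symm.trans
      (congrArg (X.presheaf.germ (U₂ ⟨false⟩) y hy) (ht ⟨false⟩))).trans (map_zero _)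

variable (k : Type u) [Field k] [X.Over (Spec (CommRingCat.of k))]
  [IsProper (X ↘ Spec (CommRingCat.of k))]

theorem nonempty_of_dim (hdim : topologicalKrullDim X = 1) : Nonempty X := by
  by_contra h
  rw [not_nonempty_iff] at h
  have h0 : Order.krullDim X = ⊥ := Order.krullDim_eq_bot
  have := (Order.krullDim_eq_of_orderIso (irreducibleSetEquivPoints (α := ↥X))).trans h0
  rw [show topologicalKrullDim X = Order.krullDim (IrreducibleCloseds X) from rfl, this] at hdim
  exact absurd hdim (by simp)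

theorem exists_ne_of_dim (hdim : topologicalKrullDim X = 1) (x : X) : ∃ y : X, y ≠ x := by
  by_contra h
  simp only [not_exists, not_not] at h
  have h0 : Order.krullDim X ≤ 0 := Order.krullDim_nonpos_iff_forall_isMax.2
    fun a b _ => by rw [h a, h b]
  have := ((Order.krullDim_eq_of_orderIso (irreducibleSetEquivPoints (α := ↥X))).le.trans h0)
  exact absurd (hdim.symm.trans_le this) (by norm_num)

theorem scalar_global (h0 : Module.finrank k (Coh.HH X (Coh.structureModule X) 0) = 1) [Nonempty X]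
    (t : Γ(X, ⊤)) : ∃ c : k, Coh.toGlobal (X ↘ Spec (CommRingCat.of k)) c = t := by
  letI : Algebra k Γ(X, ⊤) := (Coh.toGlobal (X ↘ Spec (CommRingCat.of k))).toAlgebra
  let e : Coh.HH X (Coh.structureModule X) 0 ≃ₗ[k] Γ(X, ⊤) :=
    { ProjCoh.H0top (Coh.structureModule X) with
      map_smul' := fun a h => (ProjCoh.H0top_smul (Coh.structureModule X) a h).trans
        (Algebra.smul_def (R := k) (A := Γ(X, ⊤)) a (ProjCoh.H0top (Coh.structureModule X) h)).symm }
  haveI : Nonempty (⊤ : X.Opens) := ⟨⟨Classical.arbitrary X, trivial⟩⟩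
  haveI : Nontrivial Γ(X, ⊤) := inferInstance
  rw [e.finrank_eq] at h0
  obtain ⟨c, hc⟩ := (finrank_eq_one_iff_of_nonzero' (1 : Γ(X, ⊤)) one_ne_zero).1 h0 t
  exact ⟨c, by rw [← hc, ← Algebra.algebraMap_eq_smul_one]; rfl⟩

theorem main (hdim : topologicalKrullDim X = 1)
    (h0 : Module.finrank k (Coh.HH X (Coh.structureModule X) 0) = 1) :
    ConnectedSpace X ∧ (∀ x : X, LocCoh.IsCohenMacaulayLocalRing (X.presheaf.stalk x)) ∧
      ∀ Z ∈ irreducibleComponents (X : Type u), topologicalKrullDim Z = 1 := by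
  haveI := nonempty_of_dim hdim
  haveI : IsLocallyNoetherian X := LocallyOfFiniteType.isLocallyNoetherian (X ↘ Spec (CommRingCat.of k))
  haveI := Euler.isNoetherian_of_proper (X := X) k
  haveI : Module.Finite k (Coh.HH X (Coh.structureModule X) 0) := Module.finite_of_finrank_eq_succ h0
  haveI hconn : ConnectedSpace X := ConnH0.connectedSpace_of_finrank_le k h0.le
  refine ⟨hconn, fun x => ?_, fun Z hZ => ?_⟩
  · by_cases hz : ringKrullDim (X.presheaf.stalk x) ≤ 0
    · exact CMFree.isCohenMacaulayLocalRing_of_weaklyRegular _ [] (RingTheory.Sequence.IsWeaklyRegular.nil _ _)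
        (by simp) (by simpa using hz)
    by_cases hr : ∃ r ∈ maximalIdeal (X.presheaf.stalk x), IsSMulRegular (X.presheaf.stalk x) r
    · obtain ⟨r, hrm, hr⟩ := hr
      refine CMFree.isCohenMacaulayLocalRing_of_weaklyRegular _ [r]
        ((RingTheory.Sequence.isWeaklyRegular_cons_iff _ _ _).2 ⟨hr, RingTheory.Sequence.IsWeaklyRegular.nil _ _⟩)
        (by simpa using hrm) ?_
      simpa using (AlgSp.ringKrullDim_stalk_le_localDim x).trans
        ((AlgSp.localDim_le_topologicalKrullDim x).trans hdim.le)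
    simp only [not_exists, not_and] at hr
    obtain ⟨a, ha, hk⟩ := exists_killed_of_maximal_assoc hr
    obtain ⟨t, htx, hty⟩ := exists_global_of_killed x (isClosed_singleton_of_dim_stalk hdim.le hz) a ha hk
    obtain ⟨y, hy⟩ := exists_ne_of_dim hdim x
    obtain ⟨c, rfl⟩ := scalar_global k h0 t
    by_cases hc : c = 0
    · simp [hc] at htx
    · exact absurd (hty y hy) ((((IsUnit.mk0 c hc).map _).map (X.presheaf.germ ⊤ y trivial).hom).ne_zero)
  · have hZc : IsClosed Z := isClosed_of_mem_irreducibleComponents Z hZ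
    have hle : topologicalKrullDim Z ≤ 1 :=
      (hZc.isClosedEmbedding_subtypeVal.isInducing.topologicalKrullDim_le).trans hdim.le
    obtain ⟨η, hη⟩ := QuasiSober.sober hZ.1 hZc
    refine le_antisymm hle ?_
    obtain ⟨z, hzZ, hzne⟩ : ∃ z ∈ Z, z ≠ η := by
      by_contra hall
      simp only [not_exists, not_and, not_not] at hall
      have hZeq : Z = {η} := Set.eq_singleton_iff_unique_mem.2 ⟨hη.mem, hall⟩
      have hfinC : (irreducibleComponents (X : Type u)).Finite :=
        NoetherianSpace.finite_irreducibleComponents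
      have hclC : IsClosed (⋃₀ (irreducibleComponents (X : Type u) \ {Z})) := by
        rw [Set.sUnion_eq_biUnion]
        exact (hfinC.diff (t := {Z})).isClosed_biUnion fun C hC => isClosed_of_mem_irreducibleComponents C hC.1
      have hcompl : Zᶜ = ⋃₀ (irreducibleComponents (X : Type u) \ {Z}) := by
        ext y
        constructor
        · intro hy
          exact ⟨irreducibleComponent y, ⟨irreducibleComponent_mem_irreducibleComponents y,
            fun e => hy (e ▸ mem_irreducibleComponent)⟩, mem_irreducibleComponent⟩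
        · rintro ⟨C, ⟨hC, hCZ⟩, hyC⟩ hyZ
          have hsub : Z ⊆ C := by
            rw [hZeq] at hyZ ⊢
            exact Set.singleton_subset_iff.2 ((Set.mem_singleton_iff.1 hyZ) ▸ hyC)
          exact hCZ (le_antisymm (hZ.2 hC.1 hsub) hsub)
      have hZo : IsOpen Z := isClosed_compl_iff.1 (hcompl ▸ hclC)
      rcases isClopen_iff.1 ⟨hZc, hZo⟩ with h | h
      · exact (h ▸ hη.mem : η ∈ (∅ : Set X)).elim
      · obtain ⟨y, hy⟩ := exists_ne_of_dim hdim η
        exact hy (hall y (h ▸ Set.mem_univ y))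
    haveI : QuasiSober Z := hZc.isClosedEmbedding_subtypeVal.quasiSober
    letI := specializationPreorder Z
    rw [← CurvePoints.krullDim_points_eq]
    refine Order.one_le_krullDim_iff.2 ⟨⟨z, hzZ⟩, ⟨η, hη.mem⟩, lt_iff_le_not_ge.2 ⟨?_, ?_⟩⟩
    · exact (subtype_specializes_iff _ _).2 (hη.specializes hzZ)
    · exact fun h => hzne (((subtype_specializes_iff _ _).1 h).antisymm (hη.specializes hzZ)).eq

end GrothLib.CurveH0CM
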