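import Groth.Agent.Lib.CurveH0CM.Basic
import Groth.Agent.Lib.Euler.Section
import Groth.Agent.Lib.QCoh.SupportExact
import Groth.Agent.Lib.Cohom.Cocycle
import Groth.Prelude.Def_ShStab
import Mathlib.RingTheory.KrullDimension.Zero

/-!
# Functions vanishing on the support kill pure modules on reduced curves
-/

set_option autoImplicit false
set_option backward.isDefEq.respectTransparency false
set_option linter.all false

universe u

open CategoryTheory CategoryTheory.Limits AlgebraicGeometry TopologicalSpace Opposite IsLocalRing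

noncomputable section

namespace GrothLib.CurveH0CM

variable {X : Scheme.{u}}

theorem isClosed_singleton_of_not_field (hequi : ∀ Z ∈ irreducibleComponents (X : Type u), topologicalKrullDim Z ≤ 1)
    [IsReduced X] {y : X} (hy : ¬ IsField (X.presheaf.stalk y)) : IsClosed ({y} : Set X) := by
  have hnz : Order.coheight y ≠ 0 := fun h0 => hy (by
    haveI : Ring.KrullDimLE 0 (X.presheaf.stalk y) := Ring.krullDimLE_iff.2 (by
      rw [ringKrullDim_stalk_eq_coheight, h0]; exact le_rfl)
    exact Ring.KrullDimLE.isField_of_isReduced)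
  obtain ⟨w, hyw⟩ : ∃ w, y < w := by
    by_contra hall
    simp only [not_exists] at hall
    exact hnz (Order.coheight_eq_zero.2 fun b hb => not_lt_iff_le_imp_ge.1 (hall b) hb)
  refine isClosed_of_closure_subset fun z hz => ?_
  by_contra hne
  have hzy : z < y := lt_iff_le_not_ge.2 ⟨specializes_iff_mem_closure.2 hz,
    fun h => hne ((Specializes.antisymm (specializes_iff_mem_closure.2 hz) h).eq.symm)⟩
  set Z := irreducibleComponent w with hZdef
  have hZc : IsClosed Z := isClosed_irreducibleComponent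
  have hwZ : w ∈ Z := mem_irreducibleComponent
  have hyZ : y ∈ Z := (Scheme.le_iff_specializes.1 hyw.le).mem_closed hZc hwZ
  have hzZ : z ∈ Z := (Scheme.le_iff_specializes.1 hzy.le).mem_closed hZc hyZ
  haveI : QuasiSober Z := hZc.isClosedEmbedding_subtypeVal.quasiSober
  letI PZ : Preorder Z := specializationPreorder Z
  have hle : ∀ {a b : X} (ha : a ∈ Z) (hb : b ∈ Z), a < b → @LT.lt Z PZ.toLT ⟨a, ha⟩ ⟨b, hb⟩ := by
    intro a b ha hb hab
    exact @lt_iff_le_not_ge Z PZ _ _ |>.2 ⟨(subtype_specializes_iff (⟨b, hb⟩ : Z) ⟨a, ha⟩).2 (Scheme.le_iff_specializes.1 hab.le),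
      fun h => hab.not_ge (Scheme.le_iff_specializes.2 ((subtype_specializes_iff (⟨a, ha⟩ : Z) ⟨b, hb⟩).1 h))⟩
  let c : @LTSeries Z PZ := ((RelSeries.singleton _ (⟨z, hzZ⟩ : Z)).snoc ⟨y, hyZ⟩ (by simpa using hle hzZ hyZ hzy)).snoc ⟨w, hwZ⟩
    (by simpa using hle hyZ hwZ hyw)
  have h := (Order.LTSeries.length_le_krullDim c).trans ((CurvePoints.krullDim_points_eq Z).le.trans
    (hequi Z (irreducibleComponent_mem_irreducibleComponents w)))
  simp [c] at h

theorem pure_kill [IsNoetherian X] [IsReduced X]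
    (hequi : ∀ Z ∈ irreducibleComponents (X : Type u), topologicalKrullDim Z ≤ 1)
    (J : X.Modules) (hJc : Coh.IsCoh J) (hJp : ShStab.IsPure X J 1)
    (U : X.Opens) (f : Γ(X, U)) (hf : ∀ x : X, x ∈ U → x ∈ CohB1.support J → x ∉ X.basicOpen f)
    (x : X) (hx : x ∈ U) (t : J.presheaf.stalk x) :
    (X.presheaf.germ U x hx f) • t = 0 := by
  classical
  by_contra hne
  obtain ⟨W₀, hxW₀, s₀, rfl⟩ := TopCat.Presheaf.exists_germ_eq J.presheaf t
  let W : X.Opens := U ⊓ W₀
  have hxW : x ∈ W := ⟨hx, hxW₀⟩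
  let σ : Γ(J, W) := (X.presheaf.map (homOfLE (inf_le_left : W ≤ U)).op f : Γ(X, W)) •
    J.presheaf.map (homOfLE (inf_le_right : W ≤ W₀)).op s₀
  have hgerm : ∀ (y : X) (hy : y ∈ W), J.presheaf.germ W y hy σ =
      X.presheaf.germ U y hy.1 f • J.presheaf.germ W₀ y hy.2 s₀ := fun y hy => by
    refine (GrothLib.WeakAss.germ_smul _ _ _).trans ?_
    rw [X.presheaf.germ_res_apply, TopCat.Presheaf.germ_res_apply]
  have hbad : ∀ (y : X) (hy : y ∈ W), J.presheaf.germ W y hy σ ≠ 0 → IsClosed ({y} : Set X) := by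
    intro y hy h
    refine isClosed_singleton_of_not_field hequi fun hF => h ?_
    rw [hgerm]
    have hsupp : y ∈ CohB1.support J := by
      intro hs
      exact h (Subsingleton.elim _ _)
    have hnu : ¬ IsUnit (X.presheaf.germ U y hy.1 f) := fun hu =>
      hf y hy.1 hsupp ((Scheme.mem_basicOpen _ _ _ hy.1).2 hu)
    letI := hF.toField
    have h0 : X.presheaf.germ U y hy.1 f = 0 := by
      by_contra h0
      exact hnu (Ne.isUnit h0)
    rw [h0, zero_smul]
  have hxne : J.presheaf.germ W x hxW σ ≠ 0 := by rw [hgerm]; exact hne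
  let S : Set X := {y | ∃ hy : y ∈ W, J.presheaf.germ W y hy σ ≠ 0}
  have hSfin : S.Finite := by
    have hSc : IsClosed ((↑) ⁻¹' S : Set (W : Set X)) := by
      rw [← isOpen_compl_iff, isOpen_iff_forall_mem_open]
      intro y hy
      have h0 : J.presheaf.germ W y.1 y.2 σ = 0 := by
        by_contra h0
        exact hy ⟨y.2, h0⟩
      obtain ⟨V, hyV, i, j, hij⟩ := J.presheaf.germ_eq y.1 y.2 y.2 σ 0 (by rw [h0, map_zero])
      refine ⟨Subtype.val ⁻¹' (V : Set X), fun z (hz : z.1 ∈ V) hzS => hzS.2 ?_,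
        V.2.preimage continuous_subtype_val, hyV⟩
      rw [← J.presheaf.germ_res_apply i z.1 hz σ]
      rw [hij, map_zero, map_zero]
    haveI : NoetherianSpace (W : Set X) := inferInstance
    obtain ⟨C, hC, hCirr, hCcl, hcov⟩ := NoetherianSpace.exists_finite_set_isClosed_irreducible hSc
    have hfin : ((↑) ⁻¹' S : Set (W : Set X)).Finite := by
      rw [hcov]
      refine hC.sUnion fun T hT => ?_
      haveI : QuasiSober (W : Set X) := W.2.isOpenEmbedding_subtypeVal.quasiSober
      obtain ⟨c, hc⟩ := QuasiSober.sober (hCcl T hT) (hCirr T hT)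
      have hcS : c.1 ∈ S := (show c ∈ ((↑) ⁻¹' S : Set (W : Set X)) from hcov ▸ Set.subset_sUnion_of_mem hT hc.mem)
      have hcl : IsClosed ({c} : Set (W : Set X)) := by
        have := (hbad c.1 c.2 hcS.2).preimage (continuous_subtype_val (p := fun z => z ∈ (W : Set X)))
        convert this using 1
        ext z; exact Subtype.ext_iff
      rw [← hc.def, hcl.closure_eq]
      exact Set.finite_singleton c
    refine (hfin.image Subtype.val).subset fun y hy => ⟨⟨y, hy.1⟩, hy, rfl⟩
  have hcl' : IsClosed (S \ {x}) := by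
    rw [← Set.biUnion_of_singleton (S \ {x})]
    exact (hSfin.diff (t := {x})).isClosed_biUnion fun y hy => hbad y hy.1.1 hy.1.2
  let V₁ : X.Opens := W ⊓ ⟨(S \ {x})ᶜ, hcl'.isOpen_compl⟩
  have hxcl : IsClosed ({x} : Set X) := hbad x hxW hxne
  let V₂ : X.Opens := ⟨{x}ᶜ, hxcl.isOpen_compl⟩
  have hxV₁ : x ∈ V₁ := ⟨hxW, fun h => h.2 rfl⟩
  have hzero : ∀ (y : X) (hy : y ∈ V₁), y ≠ x → J.presheaf.germ W y hy.1 σ = 0 := fun y hy hyx => by
    by_contra h
    exact hy.2 ⟨⟨hy.1, h⟩, hyx⟩
  obtain ⟨g, hg₁, hg₂⟩ := GrothLib.Cocyc.exists_glue J (V := V₁) (W := V₂) (T := ⊤)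
    (fun y _ => by
      by_cases h : y = x
      · exact Or.inl (h ▸ hxV₁)
      · exact Or.inr h) le_top le_top (J.presheaf.map (homOfLE (inf_le_left : V₁ ≤ W)).op σ) 0
    (by
      refine TopCat.Presheaf.section_ext ⟨J.presheaf, J.isSheaf⟩ _ _ _ fun y hy => ?_
      refine (J.presheaf.germ_res_apply _ y hy _).trans ((J.presheaf.germ_res_apply _ y hy.1 σ).trans ?_)
      refine (hzero y hy.1 hy.2).trans ?_
      exact ((J.presheaf.germ_res_apply _ y hy _).trans (map_zero _)).symm)
  have hgx : J.presheaf.germ ⊤ x trivial g ≠ 0 := by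
    rw [← J.presheaf.germ_res_apply (homOfLE (le_top : V₁ ≤ ⊤)) x hxV₁ g]
    erw [hg₁]
    rw [J.presheaf.germ_res_apply]
    exact hxne
  have hgy : ∀ y : X, y ≠ x → J.presheaf.germ ⊤ y trivial g = 0 := fun y hy => by
    rw [← J.presheaf.germ_res_apply (homOfLE (le_top : V₂ ≤ ⊤)) y hy g]
    erw [hg₂]
    exact map_zero _
  let φ := FinCov.homOfSection g
  have hO : Coh.IsCoh (Coh.structureModule X) := HomSh.isCoh_structureModule X
  let F := Abelian.image φ
  have hFc : Coh.IsCoh F := QCoh.isCoh_kernel _ hJc (QCoh.isCoh_cokernel φ hO hJc)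
  haveI : Mono (Abelian.image.ι φ) := inferInstanceAs (Mono (kernel.ι (cokernel.π φ)))
  haveI : Epi (Abelian.factorThruImage φ) := inferInstance
  have hF0 : ¬ IsZero F := by
    intro hz
    have h0 : φ = 0 := by
      rw [← Abelian.image.fac φ, hz.eq_of_src (Abelian.image.ι φ) 0, comp_zero]
    have h1 := FinCov.homOfSection_one g ⊤
    have h2 : (FinCov.homOfSection g).app ⊤ (FinCov.one X ⊤) = 0 := by
      show φ.app ⊤ _ = 0
      rw [h0]; rfl
    rw [h2] at h1
    refine hgx ?_
    have h3 := congrArg (J.presheaf.germ ⊤ x trivial) h1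
    rw [map_zero, J.presheaf.germ_res_apply] at h3
    exact h3.symm
  have hsub : CohB1.support F ⊆ {x} := by
    intro y hy
    by_contra hyx
    refine hy (subsingleton_of_forall_eq 0 fun e => ?_)
    obtain ⟨a, rfl⟩ := QCoh.stalkLin_surjective (Abelian.factorThruImage φ) y e
    refine QCoh.stalkLin_injective (Abelian.image.ι φ) y ?_
    rw [map_zero, ← QCoh.stalkLin_comp, Abelian.image.fac]
    obtain ⟨T, hyT, c, rfl⟩ := TopCat.Presheaf.exists_germ_eq (Coh.structureModule X).presheaf a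
    rw [QCoh.stalkLin_germ, Euler.homOfSection_app]
    refine (GrothLib.WeakAss.germ_smul _ _ _).trans ?_
    rw [J.presheaf.germ_res_apply, hgy y hyx, smul_zero]
  have hd := hJp F (Abelian.image.ι φ) inferInstance hFc hF0
  haveI : Subsingleton (CohB1.support F) := ⟨fun a b => Subtype.ext ((hsub a.2).trans (hsub b.2).symm)⟩
  have h0 : topologicalKrullDim (CohB1.support F) ≤ 0 := by
    refine Order.krullDim_nonpos_iff_forall_isMax.2 fun C D _ z _ => ?_
    obtain ⟨c, hc⟩ := C.isIrreducible.nonempty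
    rw [Subsingleton.elim z c]; exact hc
  rw [hd] at h0
  norm_num at h0

end GrothLib.CurveH0CM
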